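import Cfsg.Agent.SB.SporE.Tits.Chk0

/-! S5765, row of Tits: assembly (generated by notes/SB/spor_tools, helper63) -/

set_option autoImplicit false

namespace Cfsg.Agent.SB.SporE.Tits

open Cfsg.Agent.SB Cfsg.Agent.SB.Spor

open Cfsg

set_option maxRecDepth 100000
set_option linter.unusedSectionVars false

variable {G : Type*} [Group G]

theorem tab (M : PM G 1755) : M.Tab lk mk ver := perm_tab M rfl (by norm_num) (by norm_num)

/-- the tables `E0` describe elements of `G`, and the order of `G` is bounded -/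
structure Hyp (M : PM G 1755) : Prop where
  h0 : AllIn M lk E0
  hN : Nat.card G ≤ 17971200

variable [Finite G] {M : PM G 1755} (H : Hyp M)
include H

theorem s0 : AllIn M lk sl0 :=
  slp_spec (tab M) d1 E0 H.h0 c1

theorem i2 : M.In lk t2 :=
  s0 H _ (.head _)

theorem i3 : M.In lk t3 :=
  s0 H _ (.tail _ (.head _))

theorem i4 : M.In lk t4 :=
  s0 H _ (.tail _ (.tail _ (.head _)))

theorem i5 : M.In lk t5 :=
  s0 H _ (.tail _ (.tail _ (.tail _ (.head _))))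

theorem i6 : M.In lk t6 :=
  s0 H _ (.tail _ (.tail _ (.tail _ (.tail _ (.head _)))))

theorem i7 : M.In lk t7 :=
  s0 H _ (.tail _ (.tail _ (.tail _ (.tail _ (.tail _ (.head _))))))

theorem i8 : M.In lk t8 :=
  s0 H _ (.tail _ (.tail _ (.tail _ (.tail _ (.tail _ (.tail _ (.head _)))))))

theorem i9 : M.In lk t9 :=
  s0 H _ (.tail _ (.tail _ (.tail _ (.tail _ (.tail _ (.tail _ (.tail _ (.head _))))))))

theorem i10 : M.In lk t10 :=
  s0 H _ (.tail _ (.tail _ (.tail _ (.tail _ (.tail _ (.tail _ (.tail _ (.tail _ (.head _)))))))))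

theorem i11 : M.In lk t11 :=
  s0 H _ (.tail _ (.tail _ (.tail _ (.tail _ (.tail _ (.tail _ (.tail _ (.tail _ (.tail _ (.head _))))))))))

theorem i12 : M.In lk t12 :=
  s0 H _ (.tail _ (.tail _ (.tail _ (.tail _ (.tail _ (.tail _ (.tail _ (.tail _ (.tail _ (.tail _ (.head _)))))))))))

theorem i13 : M.In lk t13 :=
  s0 H _ (.tail _ (.tail _ (.tail _ (.tail _ (.tail _ (.tail _ (.tail _ (.tail _ (.tail _ (.tail _ (.tail _ (.head _))))))))))))

theorem i14 : M.In lk t14 :=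
  s0 H _ (.tail _ (.tail _ (.tail _ (.tail _ (.tail _ (.tail _ (.tail _ (.tail _ (.tail _ (.tail _ (.tail _ (.tail _ (.head _)))))))))))))

theorem i15 : M.In lk t15 :=
  s0 H _ (.tail _ (.tail _ (.tail _ (.tail _ (.tail _ (.tail _ (.tail _ (.tail _ (.tail _ (.tail _ (.tail _ (.tail _ (.tail _ (.head _))))))))))))))

theorem i16 : M.In lk t16 :=
  s0 H _ (.tail _ (.tail _ (.tail _ (.tail _ (.tail _ (.tail _ (.tail _ (.tail _ (.tail _ (.tail _ (.tail _ (.tail _ (.tail _ (.tail _ (.head _)))))))))))))))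

theorem i17 : M.In lk t17 :=
  s0 H _ (.tail _ (.tail _ (.tail _ (.tail _ (.tail _ (.tail _ (.tail _ (.tail _ (.tail _ (.tail _ (.tail _ (.tail _ (.tail _ (.tail _ (.tail _ (.head _))))))))))))))))

theorem i18 : M.In lk t18 :=
  s0 H _ (.tail _ (.tail _ (.tail _ (.tail _ (.tail _ (.tail _ (.tail _ (.tail _ (.tail _ (.tail _ (.tail _ (.tail _ (.tail _ (.tail _ (.tail _ (.tail _ (.head _)))))))))))))))))

theorem i19 : M.In lk t19 :=
  s0 H _ (.tail _ (.tail _ (.tail _ (.tail _ (.tail _ (.tail _ (.tail _ (.tail _ (.tail _ (.tail _ (.tail _ (.tail _ (.tail _ (.tail _ (.tail _ (.tail _ (.tail _ (.head _))))))))))))))))))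

theorem i20 : M.In lk t20 :=
  s0 H _ (.tail _ (.tail _ (.tail _ (.tail _ (.tail _ (.tail _ (.tail _ (.tail _ (.tail _ (.tail _ (.tail _ (.tail _ (.tail _ (.tail _ (.tail _ (.tail _ (.tail _ (.tail _ (.head _)))))))))))))))))))

theorem hE : AllIn M lk E :=
  (AllIn.cons (i2 H) (AllIn.cons (i3 H) (AllIn.cons (i4 H) (AllIn.cons (i5 H) (AllIn.cons (i6 H) (AllIn.cons (i7 H) (AllIn.cons (i8 H) (AllIn.cons (i9 H) (AllIn.cons (i10 H) (AllIn.cons (i11 H) (AllIn.cons (i12 H) (AllIn.cons (i13 H) (AllIn.cons (i14 H) (AllIn.cons (i15 H) (AllIn.cons (i16 H) (AllIn.cons (i17 H) (AllIn.cons (i18 H) (AllIn.cons (i19 H) (AllIn.cons (i20 H) AllIn.nil)))))))))))))))))))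

theorem hB0 : M.Base B ∧ Nat.card G = 17971200 :=
  base_of_chk (hE H) H.hN (B := B) rfl c2

theorem hB : M.Base B :=
  (hB0 H).1

theorem u0 : AllIn M lk ul0 :=
  slp_spec (tab M) d3 E (hE H) c3

theorem i21 : M.In lk t21 :=
  u0 H _ (.head _)

theorem i22 : M.In lk t22 :=
  u0 H _ (.tail _ (.head _))

theorem i23 : M.In lk t23 :=
  u0 H _ (.tail _ (.tail _ (.head _)))

theorem i24 : M.In lk t24 :=
  u0 H _ (.tail _ (.tail _ (.tail _ (.head _))))

theorem i25 : M.In lk t25 :=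
  u0 H _ (.tail _ (.tail _ (.tail _ (.tail _ (.head _)))))

theorem i26 : M.In lk t26 :=
  u0 H _ (.tail _ (.tail _ (.tail _ (.tail _ (.tail _ (.head _))))))

theorem i27 : M.In lk t27 :=
  u0 H _ (.tail _ (.tail _ (.tail _ (.tail _ (.tail _ (.tail _ (.head _)))))))

theorem i28 : M.In lk t28 :=
  u0 H _ (.tail _ (.tail _ (.tail _ (.tail _ (.tail _ (.tail _ (.tail _ (.head _))))))))

theorem i29 : M.In lk t29 :=
  u0 H _ (.tail _ (.tail _ (.tail _ (.tail _ (.tail _ (.tail _ (.tail _ (.tail _ (.head _)))))))))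

theorem i30 : M.In lk t30 :=
  u0 H _ (.tail _ (.tail _ (.tail _ (.tail _ (.tail _ (.tail _ (.tail _ (.tail _ (.tail _ (.head _))))))))))

theorem i31 : M.In lk t31 :=
  u0 H _ (.tail _ (.tail _ (.tail _ (.tail _ (.tail _ (.tail _ (.tail _ (.tail _ (.tail _ (.tail _ (.head _)))))))))))

theorem i32 : M.In lk t32 :=
  u0 H _ (.tail _ (.tail _ (.tail _ (.tail _ (.tail _ (.tail _ (.tail _ (.tail _ (.tail _ (.tail _ (.tail _ (.head _))))))))))))

theorem i33 : M.In lk t33 :=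
  u0 H _ (.tail _ (.tail _ (.tail _ (.tail _ (.tail _ (.tail _ (.tail _ (.tail _ (.tail _ (.tail _ (.tail _ (.tail _ (.head _)))))))))))))

theorem i34 : M.In lk t34 :=
  u0 H _ (.tail _ (.tail _ (.tail _ (.tail _ (.tail _ (.tail _ (.tail _ (.tail _ (.tail _ (.tail _ (.tail _ (.tail _ (.tail _ (.head _))))))))))))))

theorem i35 : M.In lk t35 :=
  u0 H _ (.tail _ (.tail _ (.tail _ (.tail _ (.tail _ (.tail _ (.tail _ (.tail _ (.tail _ (.tail _ (.tail _ (.tail _ (.tail _ (.tail _ (.head _)))))))))))))))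

theorem i36 : M.In lk t36 :=
  u0 H _ (.tail _ (.tail _ (.tail _ (.tail _ (.tail _ (.tail _ (.tail _ (.tail _ (.tail _ (.tail _ (.tail _ (.tail _ (.tail _ (.tail _ (.tail _ (.head _))))))))))))))))

theorem i37 : M.In lk t37 :=
  u0 H _ (.tail _ (.tail _ (.tail _ (.tail _ (.tail _ (.tail _ (.tail _ (.tail _ (.tail _ (.tail _ (.tail _ (.tail _ (.tail _ (.tail _ (.tail _ (.tail _ (.head _)))))))))))))))))

theorem i38 : M.In lk t38 :=
  u0 H _ (.tail _ (.tail _ (.tail _ (.tail _ (.tail _ (.tail _ (.tail _ (.tail _ (.tail _ (.tail _ (.tail _ (.tail _ (.tail _ (.tail _ (.tail _ (.tail _ (.tail _ (.head _))))))))))))))))))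

theorem i39 : M.In lk t39 :=
  u0 H _ (.tail _ (.tail _ (.tail _ (.tail _ (.tail _ (.tail _ (.tail _ (.tail _ (.tail _ (.tail _ (.tail _ (.tail _ (.tail _ (.tail _ (.tail _ (.tail _ (.tail _ (.tail _ (.head _)))))))))))))))))))

theorem i40 : M.In lk t40 :=
  u0 H _ (.tail _ (.tail _ (.tail _ (.tail _ (.tail _ (.tail _ (.tail _ (.tail _ (.tail _ (.tail _ (.tail _ (.tail _ (.tail _ (.tail _ (.tail _ (.tail _ (.tail _ (.tail _ (.tail _ (.head _))))))))))))))))))))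

theorem i41 : M.In lk t41 :=
  u0 H _ (.tail _ (.tail _ (.tail _ (.tail _ (.tail _ (.tail _ (.tail _ (.tail _ (.tail _ (.tail _ (.tail _ (.tail _ (.tail _ (.tail _ (.tail _ (.tail _ (.tail _ (.tail _ (.tail _ (.tail _ (.head _)))))))))))))))))))))

theorem i42 : M.In lk t42 :=
  u0 H _ (.tail _ (.tail _ (.tail _ (.tail _ (.tail _ (.tail _ (.tail _ (.tail _ (.tail _ (.tail _ (.tail _ (.tail _ (.tail _ (.tail _ (.tail _ (.tail _ (.tail _ (.tail _ (.tail _ (.tail _ (.tail _ (.head _))))))))))))))))))))))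

theorem i43 : M.In lk t43 :=
  u0 H _ (.tail _ (.tail _ (.tail _ (.tail _ (.tail _ (.tail _ (.tail _ (.tail _ (.tail _ (.tail _ (.tail _ (.tail _ (.tail _ (.tail _ (.tail _ (.tail _ (.tail _ (.tail _ (.tail _ (.tail _ (.tail _ (.tail _ (.head _)))))))))))))))))))))))

theorem i44 : M.In lk t44 :=
  u0 H _ (.tail _ (.tail _ (.tail _ (.tail _ (.tail _ (.tail _ (.tail _ (.tail _ (.tail _ (.tail _ (.tail _ (.tail _ (.tail _ (.tail _ (.tail _ (.tail _ (.tail _ (.tail _ (.tail _ (.tail _ (.tail _ (.tail _ (.tail _ (.head _))))))))))))))))))))))))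

theorem i45 : M.In lk t45 :=
  u0 H _ (.tail _ (.tail _ (.tail _ (.tail _ (.tail _ (.tail _ (.tail _ (.tail _ (.tail _ (.tail _ (.tail _ (.tail _ (.tail _ (.tail _ (.tail _ (.tail _ (.tail _ (.tail _ (.tail _ (.tail _ (.tail _ (.tail _ (.tail _ (.tail _ (.head _)))))))))))))))))))))))))

theorem i46 : M.In lk t46 :=
  u0 H _ (.tail _ (.tail _ (.tail _ (.tail _ (.tail _ (.tail _ (.tail _ (.tail _ (.tail _ (.tail _ (.tail _ (.tail _ (.tail _ (.tail _ (.tail _ (.tail _ (.tail _ (.tail _ (.tail _ (.tail _ (.tail _ (.tail _ (.tail _ (.tail _ (.tail _ (.head _))))))))))))))))))))))))))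

theorem i47 : M.In lk t47 :=
  u0 H _ (.tail _ (.tail _ (.tail _ (.tail _ (.tail _ (.tail _ (.tail _ (.tail _ (.tail _ (.tail _ (.tail _ (.tail _ (.tail _ (.tail _ (.tail _ (.tail _ (.tail _ (.tail _ (.tail _ (.tail _ (.tail _ (.tail _ (.tail _ (.tail _ (.tail _ (.tail _ (.head _)))))))))))))))))))))))))))

theorem i48 : M.In lk t48 :=
  u0 H _ (.tail _ (.tail _ (.tail _ (.tail _ (.tail _ (.tail _ (.tail _ (.tail _ (.tail _ (.tail _ (.tail _ (.tail _ (.tail _ (.tail _ (.tail _ (.tail _ (.tail _ (.tail _ (.tail _ (.tail _ (.tail _ (.tail _ (.tail _ (.tail _ (.tail _ (.tail _ (.tail _ (.head _))))))))))))))))))))))))))))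

theorem i49 : M.In lk t49 :=
  u0 H _ (.tail _ (.tail _ (.tail _ (.tail _ (.tail _ (.tail _ (.tail _ (.tail _ (.tail _ (.tail _ (.tail _ (.tail _ (.tail _ (.tail _ (.tail _ (.tail _ (.tail _ (.tail _ (.tail _ (.tail _ (.tail _ (.tail _ (.tail _ (.tail _ (.tail _ (.tail _ (.tail _ (.tail _ (.head _)))))))))))))))))))))))))))))

theorem i50 : M.In lk t50 :=
  u0 H _ (.tail _ (.tail _ (.tail _ (.tail _ (.tail _ (.tail _ (.tail _ (.tail _ (.tail _ (.tail _ (.tail _ (.tail _ (.tail _ (.tail _ (.tail _ (.tail _ (.tail _ (.tail _ (.tail _ (.tail _ (.tail _ (.tail _ (.tail _ (.tail _ (.tail _ (.tail _ (.tail _ (.tail _ (.tail _ (.head _))))))))))))))))))))))))))))))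

theorem i51 : M.In lk t51 :=
  u0 H _ (.tail _ (.tail _ (.tail _ (.tail _ (.tail _ (.tail _ (.tail _ (.tail _ (.tail _ (.tail _ (.tail _ (.tail _ (.tail _ (.tail _ (.tail _ (.tail _ (.tail _ (.tail _ (.tail _ (.tail _ (.tail _ (.tail _ (.tail _ (.tail _ (.tail _ (.tail _ (.tail _ (.tail _ (.tail _ (.tail _ (.head _)))))))))))))))))))))))))))))))

theorem i52 : M.In lk t52 :=
  u0 H _ (.tail _ (.tail _ (.tail _ (.tail _ (.tail _ (.tail _ (.tail _ (.tail _ (.tail _ (.tail _ (.tail _ (.tail _ (.tail _ (.tail _ (.tail _ (.tail _ (.tail _ (.tail _ (.tail _ (.tail _ (.tail _ (.tail _ (.tail _ (.tail _ (.tail _ (.tail _ (.tail _ (.tail _ (.tail _ (.tail _ (.tail _ (.head _))))))))))))))))))))))))))))))))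

theorem i53 : M.In lk t53 :=
  u0 H _ (.tail _ (.tail _ (.tail _ (.tail _ (.tail _ (.tail _ (.tail _ (.tail _ (.tail _ (.tail _ (.tail _ (.tail _ (.tail _ (.tail _ (.tail _ (.tail _ (.tail _ (.tail _ (.tail _ (.tail _ (.tail _ (.tail _ (.tail _ (.tail _ (.tail _ (.tail _ (.tail _ (.tail _ (.tail _ (.tail _ (.tail _ (.tail _ (.head _)))))))))))))))))))))))))))))))))

theorem i54 : M.In lk t54 :=
  u0 H _ (.tail _ (.tail _ (.tail _ (.tail _ (.tail _ (.tail _ (.tail _ (.tail _ (.tail _ (.tail _ (.tail _ (.tail _ (.tail _ (.tail _ (.tail _ (.tail _ (.tail _ (.tail _ (.tail _ (.tail _ (.tail _ (.tail _ (.tail _ (.tail _ (.tail _ (.tail _ (.tail _ (.tail _ (.tail _ (.tail _ (.tail _ (.tail _ (.tail _ (.head _))))))))))))))))))))))))))))))))))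

theorem i55 : M.In lk t55 :=
  u0 H _ (.tail _ (.tail _ (.tail _ (.tail _ (.tail _ (.tail _ (.tail _ (.tail _ (.tail _ (.tail _ (.tail _ (.tail _ (.tail _ (.tail _ (.tail _ (.tail _ (.tail _ (.tail _ (.tail _ (.tail _ (.tail _ (.tail _ (.tail _ (.tail _ (.tail _ (.tail _ (.tail _ (.tail _ (.tail _ (.tail _ (.tail _ (.tail _ (.tail _ (.tail _ (.head _)))))))))))))))))))))))))))))))))))

theorem i56 : M.In lk t56 :=
  u0 H _ (.tail _ (.tail _ (.tail _ (.tail _ (.tail _ (.tail _ (.tail _ (.tail _ (.tail _ (.tail _ (.tail _ (.tail _ (.tail _ (.tail _ (.tail _ (.tail _ (.tail _ (.tail _ (.tail _ (.tail _ (.tail _ (.tail _ (.tail _ (.tail _ (.tail _ (.tail _ (.tail _ (.tail _ (.tail _ (.tail _ (.tail _ (.tail _ (.tail _ (.tail _ (.tail _ (.head _))))))))))))))))))))))))))))))))))))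

theorem i57 : M.In lk t57 :=
  u0 H _ (.tail _ (.tail _ (.tail _ (.tail _ (.tail _ (.tail _ (.tail _ (.tail _ (.tail _ (.tail _ (.tail _ (.tail _ (.tail _ (.tail _ (.tail _ (.tail _ (.tail _ (.tail _ (.tail _ (.tail _ (.tail _ (.tail _ (.tail _ (.tail _ (.tail _ (.tail _ (.tail _ (.tail _ (.tail _ (.tail _ (.tail _ (.tail _ (.tail _ (.tail _ (.tail _ (.tail _ (.head _)))))))))))))))))))))))))))))))))))))

theorem i58 : M.In lk t58 :=
  u0 H _ (.tail _ (.tail _ (.tail _ (.tail _ (.tail _ (.tail _ (.tail _ (.tail _ (.tail _ (.tail _ (.tail _ (.tail _ (.tail _ (.tail _ (.tail _ (.tail _ (.tail _ (.tail _ (.tail _ (.tail _ (.tail _ (.tail _ (.tail _ (.tail _ (.tail _ (.tail _ (.tail _ (.tail _ (.tail _ (.tail _ (.tail _ (.tail _ (.tail _ (.tail _ (.tail _ (.tail _ (.tail _ (.head _))))))))))))))))))))))))))))))))))))))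

theorem i59 : M.In lk t59 :=
  u0 H _ (.tail _ (.tail _ (.tail _ (.tail _ (.tail _ (.tail _ (.tail _ (.tail _ (.tail _ (.tail _ (.tail _ (.tail _ (.tail _ (.tail _ (.tail _ (.tail _ (.tail _ (.tail _ (.tail _ (.tail _ (.tail _ (.tail _ (.tail _ (.tail _ (.tail _ (.tail _ (.tail _ (.tail _ (.tail _ (.tail _ (.tail _ (.tail _ (.tail _ (.tail _ (.tail _ (.tail _ (.tail _ (.tail _ (.head _)))))))))))))))))))))))))))))))))))))))

theorem i60 : M.In lk t60 :=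
  u0 H _ (.tail _ (.tail _ (.tail _ (.tail _ (.tail _ (.tail _ (.tail _ (.tail _ (.tail _ (.tail _ (.tail _ (.tail _ (.tail _ (.tail _ (.tail _ (.tail _ (.tail _ (.tail _ (.tail _ (.tail _ (.tail _ (.tail _ (.tail _ (.tail _ (.tail _ (.tail _ (.tail _ (.tail _ (.tail _ (.tail _ (.tail _ (.tail _ (.tail _ (.tail _ (.tail _ (.tail _ (.tail _ (.tail _ (.tail _ (.head _))))))))))))))))))))))))))))))))))))))))

theorem i61 : M.In lk t61 :=
  u0 H _ (.tail _ (.tail _ (.tail _ (.tail _ (.tail _ (.tail _ (.tail _ (.tail _ (.tail _ (.tail _ (.tail _ (.tail _ (.tail _ (.tail _ (.tail _ (.tail _ (.tail _ (.tail _ (.tail _ (.tail _ (.tail _ (.tail _ (.tail _ (.tail _ (.tail _ (.tail _ (.tail _ (.tail _ (.tail _ (.tail _ (.tail _ (.tail _ (.tail _ (.tail _ (.tail _ (.tail _ (.tail _ (.tail _ (.tail _ (.tail _ (.head _)))))))))))))))))))))))))))))))))))))))))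

theorem i62 : M.In lk t62 :=
  u0 H _ (.tail _ (.tail _ (.tail _ (.tail _ (.tail _ (.tail _ (.tail _ (.tail _ (.tail _ (.tail _ (.tail _ (.tail _ (.tail _ (.tail _ (.tail _ (.tail _ (.tail _ (.tail _ (.tail _ (.tail _ (.tail _ (.tail _ (.tail _ (.tail _ (.tail _ (.tail _ (.tail _ (.tail _ (.tail _ (.tail _ (.tail _ (.tail _ (.tail _ (.tail _ (.tail _ (.tail _ (.tail _ (.tail _ (.tail _ (.tail _ (.tail _ (.head _))))))))))))))))))))))))))))))))))))))))))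

theorem i63 : M.In lk t63 :=
  u0 H _ (.tail _ (.tail _ (.tail _ (.tail _ (.tail _ (.tail _ (.tail _ (.tail _ (.tail _ (.tail _ (.tail _ (.tail _ (.tail _ (.tail _ (.tail _ (.tail _ (.tail _ (.tail _ (.tail _ (.tail _ (.tail _ (.tail _ (.tail _ (.tail _ (.tail _ (.tail _ (.tail _ (.tail _ (.tail _ (.tail _ (.tail _ (.tail _ (.tail _ (.tail _ (.tail _ (.tail _ (.tail _ (.tail _ (.tail _ (.tail _ (.tail _ (.tail _ (.head _)))))))))))))))))))))))))))))))))))))))))))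

theorem i64 : M.In lk t64 :=
  u0 H _ (.tail _ (.tail _ (.tail _ (.tail _ (.tail _ (.tail _ (.tail _ (.tail _ (.tail _ (.tail _ (.tail _ (.tail _ (.tail _ (.tail _ (.tail _ (.tail _ (.tail _ (.tail _ (.tail _ (.tail _ (.tail _ (.tail _ (.tail _ (.tail _ (.tail _ (.tail _ (.tail _ (.tail _ (.tail _ (.tail _ (.tail _ (.tail _ (.tail _ (.tail _ (.tail _ (.tail _ (.tail _ (.tail _ (.tail _ (.tail _ (.tail _ (.tail _ (.tail _ (.head _))))))))))))))))))))))))))))))))))))))))))))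

theorem i65 : M.In lk t65 :=
  u0 H _ (.tail _ (.tail _ (.tail _ (.tail _ (.tail _ (.tail _ (.tail _ (.tail _ (.tail _ (.tail _ (.tail _ (.tail _ (.tail _ (.tail _ (.tail _ (.tail _ (.tail _ (.tail _ (.tail _ (.tail _ (.tail _ (.tail _ (.tail _ (.tail _ (.tail _ (.tail _ (.tail _ (.tail _ (.tail _ (.tail _ (.tail _ (.tail _ (.tail _ (.tail _ (.tail _ (.tail _ (.tail _ (.tail _ (.tail _ (.tail _ (.tail _ (.tail _ (.tail _ (.tail _ (.head _)))))))))))))))))))))))))))))))))))))))))))))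

theorem i66 : M.In lk t66 :=
  u0 H _ (.tail _ (.tail _ (.tail _ (.tail _ (.tail _ (.tail _ (.tail _ (.tail _ (.tail _ (.tail _ (.tail _ (.tail _ (.tail _ (.tail _ (.tail _ (.tail _ (.tail _ (.tail _ (.tail _ (.tail _ (.tail _ (.tail _ (.tail _ (.tail _ (.tail _ (.tail _ (.tail _ (.tail _ (.tail _ (.tail _ (.tail _ (.tail _ (.tail _ (.tail _ (.tail _ (.tail _ (.tail _ (.tail _ (.tail _ (.tail _ (.tail _ (.tail _ (.tail _ (.tail _ (.tail _ (.head _))))))))))))))))))))))))))))))))))))))))))))))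

theorem i67 : M.In lk t67 :=
  u0 H _ (.tail _ (.tail _ (.tail _ (.tail _ (.tail _ (.tail _ (.tail _ (.tail _ (.tail _ (.tail _ (.tail _ (.tail _ (.tail _ (.tail _ (.tail _ (.tail _ (.tail _ (.tail _ (.tail _ (.tail _ (.tail _ (.tail _ (.tail _ (.tail _ (.tail _ (.tail _ (.tail _ (.tail _ (.tail _ (.tail _ (.tail _ (.tail _ (.tail _ (.tail _ (.tail _ (.tail _ (.tail _ (.tail _ (.tail _ (.tail _ (.tail _ (.tail _ (.tail _ (.tail _ (.tail _ (.tail _ (.head _)))))))))))))))))))))))))))))))))))))))))))))))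

theorem g2p0 : PcG M lk g2_0_11 2048 :=
  pcg_of (hB H) (fa_cons (⟨i21 H, i22 H⟩) (fa_cons (⟨i23 H, i24 H⟩) (fa_cons (⟨i25 H, i26 H⟩) (fa_cons (⟨i27 H, i28 H⟩) (fa_cons (⟨i29 H, i30 H⟩) (fa_cons (⟨i31 H, i32 H⟩) (fa_cons (⟨i33 H, i34 H⟩) (fa_cons (⟨i35 H, i36 H⟩) (fa_cons (⟨i37 H, i38 H⟩) (fa_cons (⟨i39 H, i40 H⟩) (fa_cons (⟨i41 H, i42 H⟩) fa_nil))))))))))) c4 c5 (E := g2E) rfl c6

theorem g3p0 : PcG M lk g3_0_5 108 :=
  pcg_of (hB H) (fa_cons (⟨i43 H, i44 H⟩) (fa_cons (⟨i45 H, i46 H⟩) (fa_cons (⟨i47 H, i48 H⟩) (fa_cons (⟨i49 H, i50 H⟩) (fa_cons (⟨i51 H, i52 H⟩) fa_nil))))) c7 c8 (E := g3E) rfl c9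

theorem g5p2 : PcG M lk g5_2_4 25 :=
  pcg_of (hB H) (fa_cons (⟨i53 H, i54 H⟩) (fa_cons (⟨i55 H, i56 H⟩) fa_nil)) c10 c11 (E := g5E) rfl c12

theorem g13p0 : PcG M lk g13_0_3 78 :=
  pcg_of (hB H) (fa_cons (⟨i57 H, i58 H⟩) (fa_cons (⟨i59 H, i60 H⟩) (fa_cons (⟨i61 H, i62 H⟩) fa_nil))) c13 c14 (E := g13E) rfl c15

theorem g3p1 : PcG M lk g3_1_5 54 :=
  (g3p0 H).right (A := g3_0_1) rfl (by decide +kernel)

theorem dn0 : Dn (M.el lk t63) 3 54 :=
  (g3p1 H).dnS (tab M) (nsC_ok (hB H) _) (i63 H) (Upto.zero) c18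

theorem ok0 : Rc.Ok ⟨2, 3, 54, 1536⟩ (M.el lk t63) :=
  rc_ok (hB H) (i63 H) (by norm_num) c16 (dn0 H) (by norm_num) (norm_ge (hB H) (hE H) (i63 H) c17)

theorem g3p2 : PcG M lk g3_2_5 27 :=
  (g3p0 H).right (A := g3_0_2) rfl (by decide +kernel)

theorem dn1 : Dn (M.el lk t64) 4 27 :=
  (g3p2 H).dnS (tab M) (nsC_ok (hB H) _) (i64 H) (Upto.zero) c21

theorem ok1 : Rc.Ok ⟨2, 4, 27, 10240⟩ (M.el lk t64) :=
  rc_ok (hB H) (i64 H) (by norm_num) c19 (dn1 H) (by norm_num) (norm_ge (hB H) (hE H) (i64 H) c20)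

theorem dn2 : Dn (M.el lk t65) 2 108 :=
  (g3p0 H).dnS (tab M) (nsC_ok (hB H) _) (i65 H) (Upto.zero) c24

theorem ok2 : Rc.Ok ⟨3, 2, 108, 216⟩ (M.el lk t65) :=
  rc_ok (hB H) (i65 H) (by norm_num) c22 (dn2 H) (by norm_num) (norm_ge (hB H) (hE H) (i65 H) c23)

theorem dn3 : Dn (M.el lk t66) 1 78 :=
  (g13p0 H).dnP (A := g13_0_2) (R := g13_2_3) rfl (tab M) (nsC_ok (hB H) _) (i66 H) (Upto.zero) c27

theorem ok3 : Rc.Ok ⟨5, 1, 78, 200⟩ (M.el lk t66) :=
  rc_ok (hB H) (i66 H) (by norm_num) c25 (dn3 H) (by norm_num) (norm_ge (hB H) (hE H) (i66 H) c26)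

theorem g2p4 : PcG M lk g2_4_11 128 :=
  (g2p0 H).right (A := g2_0_4) rfl (by decide +kernel)

theorem dn4 : Dn (M.el lk t67) 1 128 :=
  (g2p4 H).dnP (A := g2_4_7) (R := g2_7_11) rfl (tab M) (nsC_ok (hB H) _) (i67 H) (Upto.zero) c30

theorem ok4 : Rc.Ok ⟨13, 1, 128, 78⟩ (M.el lk t67) :=
  rc_ok (hB H) (i67 H) (by norm_num) c28 (dn4 H) (by norm_num) (norm_ge (hB H) (hE H) (i67 H) c29)

theorem cov2 : Cov M lk 2 r2 :=
  (g2p0 H).cov (hB H) (A := g2_0_0) (R := g2_0_11) (d := 8775) (a := 1) rfl (by norm_num) (hB0 H).2 (by decide +kernel) (hE H)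
    (AllIn.cons (i63 H) (AllIn.cons (i64 H) AllIn.nil)) c31 (cls := cl2) rfl
    (show ∀ c ∈ [0], _ from (fa_cons (⟨_, c32⟩) fa_nil))

theorem cov3 : Cov M lk 3 r3 :=
  (g3p2 H).cov (hB H) (A := g3_2_2) (R := g3_2_5) (d := 665600) (a := 1) rfl (by norm_num) (hB0 H).2 (by decide +kernel) (hE H)
    (AllIn.cons (i65 H) AllIn.nil) c33 (cls := cl3) rfl
    (show ∀ c ∈ [0], _ from (fa_cons (⟨_, c34⟩) fa_nil))

theorem cov5 : Cov M lk 5 r5 :=
  (g5p2 H).cov (hB H) (A := g5_2_2) (R := g5_2_4) (d := 718848) (a := 1) rfl (by norm_num) (hB0 H).2 (by decide +kernel) (hE H)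
    (AllIn.cons (i66 H) AllIn.nil) c35 (cls := cl5) rfl
    (show ∀ c ∈ [0], _ from (fa_cons (⟨_, c36⟩) fa_nil))

theorem cov13 : Cov M lk 13 r13 :=
  cov_of_prime (d := 1382400) (by norm_num) (ok4 H).ord ((hB0 H).2.trans (by norm_num)) (by norm_num)

theorem sheet : Sheet G 17971200 [⟨2, 3, 54, 1536⟩, ⟨2, 4, 27, 10240⟩, ⟨3, 2, 108, 216⟩, ⟨5, 1, 78, 200⟩, ⟨13, 1, 128, 78⟩] :=
  sheet_of (hB0 H).2 (F := [(2, 11), (3, 3), (5, 2), (13, 1)]) (by norm_num) (reps := [t63, t64, t65, t66, t67])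
    (.cons (ok0 H) (.cons (ok1 H) (.cons (ok2 H) (.cons (ok3 H) (.cons (ok4 H) .nil)))))
    (fa_cons (pcov (by norm_num) (cov2 H) (fa_cons ((.head _)) (fa_cons ((.tail _ (.head _))) fa_nil))) (fa_cons (pcov (by norm_num) (cov3 H) (fa_cons ((.tail _ (.tail _ (.head _)))) fa_nil)) (fa_cons (pcov (by norm_num) (cov5 H) (fa_cons ((.tail _ (.tail _ (.tail _ (.head _))))) fa_nil)) (fa_cons (pcov (by norm_num) (cov13 H) (fa_cons ((.tail _ (.tail _ (.tail _ (.tail _ (.head _)))))) fa_nil)) fa_nil))))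

theorem big : ∀ c : G, (orderOf c).Prime → orderOf c ∣ 325 → Dn c 1 49 :=
  big_of (F := [(13, 1), (5, 2)]) (by norm_num)
    (fa_cons (pcov (by norm_num) (cov13 H) (fa_cons ((ok4 H).big (by norm_num) (by norm_num)) fa_nil)) (fa_cons (pcov (by norm_num) (cov5 H) (fa_cons ((ok3 H).big (by norm_num) (by norm_num)) fa_nil)) fa_nil))

theorem row [IsSimpleGroup G] (hK : ¬ IsMulCommutative G) (ho : Nat.card (Out G) ≤ 2) : Row G :=
  (sheet H).row_two hK ho (by norm_num) (hB0 H).2 (a := 55296) (by norm_num) (by norm_num) (big H)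
    (by simp only [List.map, List.sum_cons, List.sum_nil, Rc.term]; norm_num)

end Cfsg.Agent.SB.SporE.Tits
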